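import Groth.Agent.IdealTransLib.CdOne
import Groth.Agent.FormalCohLib.Alg
import Mathlib.Data.Fin.Tuple.NatAntidiagonal
import Mathlib.RingTheory.Polynomial.Basic

/-!
# The graded maps of a cohomological dimension one ideal: algebra
-/

set_option autoImplicit false
set_option linter.style.haveILetI false

noncomputable section

universe u

open IdealTransLib (P P_succ phiRes)

namespace CdOneFormalLib

variable {A : Type u} [CommRing A] {r : ℕ} {I : Ideal A} {c : ℕ}

theorem phi_mem_pow (φ : Fin r → (↥(I ^ c) →ₗ[A] A)) (j : Fin r) (E : ℕ) {g : A} (hg : g ∈ I ^ (c + E))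
    (h : g ∈ I ^ c) : φ j ⟨g, h⟩ ∈ I ^ E := by
  have hg' : g ∈ I ^ c * I ^ E := by rwa [← pow_add]
  suffices ∀ h : g ∈ I ^ c, φ j ⟨g, h⟩ ∈ I ^ E from this h
  clear hg h
  induction hg' using Submodule.mul_induction_on' with
  | mem_mul_mem a ha b hb =>
    intro h
    rw [IdealTransLib.phi_mul φ j ha h]
    exact Ideal.mul_mem_right _ _ hb
  | add a ha b hb iha ihb =>
    intro h
    have h1 := iha (Ideal.mul_le_left ha)
    have h2 := ihb (Ideal.mul_le_left hb)
    have := Ideal.add_mem _ h1 h2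
    rwa [← map_add] at this

theorem coeff_P_mem {φ : Fin r → (↥(I ^ c) →ₗ[A] A)} {J : Ideal A} (hJ : ∀ j x, φ j x ∈ J) (n : ℕ)
    (x : ↥(I ^ ((n + 1) * c))) (d : Fin r →₀ ℕ) : MvPolynomial.coeff d (P φ (n + 1) x) ∈ J := by
  suffices P φ (n + 1) x ∈ J.map (MvPolynomial.C : A →+* MvPolynomial (Fin r) A) from
    MvPolynomial.mem_map_C_iff.1 this d
  induction n with
  | zero =>
    rw [P_succ]
    refine Ideal.sum_mem _ fun j _ => Ideal.mul_mem_left _ _ ?_
    exact Ideal.mem_map_of_mem _ (hJ j _)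
  | succ n ih =>
    rw [P_succ]
    exact Ideal.sum_mem _ fun j _ => Ideal.mul_mem_left _ _ (ih _)

theorem aeval_eq_sum_antidiagonal (f : Fin r → A) {n : ℕ} {p : MvPolynomial (Fin r) A} (hp : p.IsHomogeneous n) :
    MvPolynomial.aeval f p = ∑ e : ↥(Finset.Nat.antidiagonalTuple r n),
      MvPolynomial.coeff (Finsupp.equivFunOnFinite.symm e.1) p * ∏ j, f j ^ e.1 j := by
  classical
  rw [Finset.sum_coe_sort (Finset.Nat.antidiagonalTuple r n)
    (fun e => MvPolynomial.coeff (Finsupp.equivFunOnFinite.symm e) p * ∏ j, f j ^ e j),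
    MvPolynomial.aeval_def, MvPolynomial.eval₂_eq', Algebra.algebraMap_self]
  let S := (Finset.Nat.antidiagonalTuple r n).map Finsupp.equivFunOnFinite.symm.toEmbedding
  refine (Finset.sum_subset (s₂ := S) (fun d hd => ?_) fun d _ hd => by
    simp [MvPolynomial.notMem_support_iff.1 hd]).trans ?_
  · have h1 := hp (MvPolynomial.mem_support_iff.1 hd)
    refine Finset.mem_map.2 ⟨Finsupp.equivFunOnFinite d, Finset.Nat.mem_antidiagonalTuple.2 ?_,
      Finsupp.equivFunOnFinite.symm_apply_apply d⟩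
    rw [← h1, Finsupp.weight_apply, Finsupp.sum_fintype _ _ (fun i => by simp)]
    simp
  · rw [Finset.sum_map]
    exact Finset.sum_congr rfl fun e _ => by simp

variable {B : Type u} [CommRing B] {J : Ideal B}

open FormalCohLib in
/-- Multiples of a high power of the ideal have no torsion. -/
theorem exists_torsion_bound [IsNoetherianRing B] (S : AdSys J) :
    ∃ E : ℕ, ∀ (k : ℕ) (t : S.L), t ∈ J ^ E • (⊤ : Submodule B S.L) → (∀ b ∈ J ^ k, b • t = 0) → t = 0 := by
  classical
  have := Groth.Agent.S0543.result B J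
  have := S.main.1
  let T : Submodule (AdicCompletion J B) S.L :=
    { carrier := {t | ∃ k : ℕ, ∀ b ∈ J ^ k, b • t = 0}
      zero_mem' := ⟨0, fun b _ => smul_zero b⟩
      add_mem' := by
        rintro s t ⟨k, hk⟩ ⟨l, hl⟩
        refine ⟨max k l, fun b hb => ?_⟩
        rw [smul_add, hk b (Ideal.pow_le_pow_right (le_max_left k l) hb),
          hl b (Ideal.pow_le_pow_right (le_max_right k l) hb), add_zero]
      smul_mem' := by
        rintro a t ⟨k, hk⟩
        exact ⟨k, fun b hb => by rw [smul_comm, hk b hb, smul_zero]⟩ }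
  obtain ⟨k₀, hk₀⟩ : ∃ k₀ : ℕ, ∀ t ∈ T, ∀ b ∈ J ^ k₀, b • t = 0 := by
    obtain ⟨s, hs⟩ := IsNoetherian.noetherian T
    have hT : ∀ y : {x // x ∈ s}, ∃ k : ℕ, ∀ b ∈ J ^ k, b • y.1 = 0 := fun y =>
      (hs.le (Submodule.subset_span y.2) : y.1 ∈ T)
    choose k hk using hT
    refine ⟨Finset.univ.sup k, fun t ht b hb => ?_⟩
    rw [← hs] at ht
    induction ht using Submodule.span_induction with
    | mem y hy => exact hk ⟨y, hy⟩ b (Ideal.pow_le_pow_right (Finset.le_sup (Finset.mem_univ _)) hb)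
    | zero => exact smul_zero b
    | add y z _ _ hy hz => rw [smul_add, hy, hz, add_zero]
    | smul a y _ hy => rw [smul_comm, hy, smul_zero]
  obtain ⟨c, hc⟩ := S.artinRees J T
  refine ⟨k₀ + c, fun k t ht hk => ?_⟩
  refine Submodule.smul_induction_on (hc k₀ t ⟨k, hk⟩ ht) (fun b hb y hy => hk₀ y hy b hb) fun y z hy hz => ?_
  rw [hy, hz, add_zero]

open FormalCohLib in
/-- Relations at a level are sent to zero some levels below. -/
theorem sum_smul_proj_eq_zero [IsNoetherianRing B] (S : AdSys J) {E : ℕ}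
    (hE : ∀ (k : ℕ) (t : S.L), t ∈ J ^ E • (⊤ : Submodule B S.L) → (∀ b ∈ J ^ k, b • t = 0) → t = 0)
    {s k : ℕ} (a l : Fin s → B) (ha : Ideal.span (Set.range a) = J ^ k) (hl : ∀ i j, a i * l j = a j * l i)
    (hlE : k = 0 ∨ ∀ i, l i ∈ J ^ E) (m : ℕ) (w : Fin s → S.L)
    (hw : ∑ i, a i • S.proj (m + k) (w i) = 0) : ∑ i, l i • S.proj m (w i) = 0 := by
  classical
  have hmem : ∀ x ∈ J ^ k • (J ^ (m + 1) • (⊤ : Submodule B S.L)),
      ∃ u : Fin s → S.L, (∀ i, u i ∈ J ^ (m + 1) • (⊤ : Submodule B S.L)) ∧ ∑ i, a i • u i = x := by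
    intro x hx
    refine Submodule.smul_induction_on hx (fun b hb v hv => ?_) ?_
    · rw [← ha] at hb
      obtain ⟨f, rfl⟩ := Ideal.mem_span_range_iff_exists_fun.1 hb
      refine ⟨fun i => f i • v, fun i => Submodule.smul_mem _ _ hv, ?_⟩
      rw [Finset.sum_smul]
      exact Finset.sum_congr rfl fun i _ => by rw [smul_smul, mul_comm]
    · rintro v v' ⟨e, he, rfl⟩ ⟨e', he', rfl⟩
      exact ⟨e + e', fun i => add_mem (he i) (he' i), by simp [smul_add, Finset.sum_add_distrib]⟩
  have h1 : ∑ i, a i • w i ∈ J ^ k • (J ^ (m + 1) • (⊤ : Submodule B S.L)) := by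
    rw [← Submodule.mul_smul, ← pow_add, show k + (m + 1) = m + k + 1 by omega, ← S.ker_proj,
      LinearMap.mem_ker, map_sum]
    simpa only [map_smul] using hw
  obtain ⟨u, hu, hue⟩ := hmem _ h1
  have hz : ∑ i, a i • (w i - u i) = 0 := by
    simp only [smul_sub, Finset.sum_sub_distrib, hue, sub_self]
  let t := ∑ i, l i • (w i - u i)
  have hkill : ∀ b ∈ J ^ k, b • t = 0 := by
    intro b hb
    rw [← ha] at hb
    induction hb using Submodule.span_induction with
    | mem y hy =>
      obtain ⟨j, rfl⟩ := hy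
      calc a j • t = ∑ i, l j • a i • (w i - u i) := by
            rw [Finset.smul_sum]
            refine Finset.sum_congr rfl fun i _ => ?_
            rw [smul_smul, smul_smul, ← hl i j, mul_comm]
        _ = 0 := by rw [← Finset.smul_sum, hz, smul_zero]
    | zero => exact zero_smul _ _
    | add y z _ _ hy hz => rw [add_smul, hy, hz, add_zero]
    | smul e y _ hy => rw [smul_eq_mul, mul_smul, hy, smul_zero]
  have ht : t = 0 := by
    rcases hlE with hk0 | hlE
    · have := hkill 1 (by rw [hk0, pow_zero, Ideal.one_eq_top]; trivial)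
      rwa [one_smul] at this
    · exact hE k t (Submodule.sum_mem _ fun i _ => Submodule.smul_mem_smul (hlE i) trivial) hkill
  have h2 := congrArg (S.proj m) ht
  rw [map_zero, map_sum] at h2
  refine Eq.trans (Finset.sum_congr rfl fun i _ => ?_) h2
  rw [map_smul, map_sub, LinearMap.mem_ker.1 ((S.ker_proj m).ge (hu i)), sub_zero]

end CdOneFormalLib

end
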