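import Groth.Agent.CdOneFormalLib.Graded
import Groth.Agent.S0827
import Groth.Agent.FormalProLib.Quot

/-!
# The topology on the limit of the cohomology of a coherent formal module
-/

set_option autoImplicit false
set_option linter.style.haveILetI false
set_option linter.unusedSectionVars false
set_option backward.isDefEq.respectTransparency false
set_option backward.isDefEq.respectTransparency.types false

noncomputable section

universe u

open CategoryTheory CategoryTheory.Limits AlgebraicGeometry TopologicalSpace Opposite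
open FormalLib (hMapA hMapA_apply hMapA_comp)

namespace CdOneFormalLib

variable {A : Type u} [CommRing A] {X : Scheme.{u}} [X.Over (Spec (CommRingCat.of A))]

/-- Compatible families of classes come from classes on the limit. -/
theorem exists_lift_limit {I : Ideal A} {G : ℕᵒᵖ ⥤ X.Modules} (hG : Formal2.IsQCohFormal I G) :
    ∀ (p : ℕ) (x : ∀ n, Coh.HH X (G.obj (op n)) p), (∀ n, Formal2.HHsysMap G p n (x (n + 1)) = x n) →
      ∃ z : Coh.HH X (limit G) p, ∀ n, hMapA (A := A) (limit.π G (op n)) p z = x n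
  | p + 1, x, hx => by
    obtain ⟨α, β, -, hβ, -, hβπ⟩ := Groth.Agent.S0827.result A I X G hG p
    obtain ⟨z, hz⟩ := hβ ⟨x, funext fun n => sub_eq_zero.2 (hx n).symm⟩
    refine ⟨z, fun n => ?_⟩
    rw [hMapA_apply, ← hβπ z n, hz]
  | 0, x, hx => by
    let e : ∀ M : X.Modules, Coh.HH X M 0 ≃+ ((QCohLib.toAbF X).obj M).obj.obj (op (⊤ : Opens X.toTopCat)) :=
      fun M => (QCohLib.hEquiv ((QCohLib.toAbF X).obj M) 0).trans QCohLib.h0
    have he : ∀ {M N : X.Modules} (φ : M ⟶ N) (y : Coh.HH X M 0),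
        e N (hMapA (A := A) φ 0 y) = ((QCohLib.toAbF X).map φ).hom.app (op ⊤) (e M y) := fun φ y => by
      show QCohLib.h0 (QCohLib.hEquiv _ 0 (Sheaf.H.map ((QCohLib.toAbF X).map φ) 0 y)) = _
      rw [QCohLib.hEquiv_map, QCohLib.h0_comp]
      rfl
    obtain ⟨t, ht⟩ := FormalLimVanishLib.exists_limit_section (G := G) (⊤ : X.Opens) (fun n => e _ (x n))
      fun n => by
        refine Eq.trans ?_ (congrArg (e _) (hx n))
        exact (he (FormalLimVanishLib.tr G n) (x (n + 1))).symm
    refine ⟨(e (limit G)).symm t, fun n => (e _).injective ?_⟩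
    rw [he, AddEquiv.apply_symm_apply]
    exact ht n

variable [IsNoetherianRing A] [AlgebraicGeometry.IsNoetherian X]

/-- **Families vanishing at a deep level are combinations with coefficients in a power of the ideal.** -/
theorem exists_topology_bound {r c : ℕ} {I : Ideal A} (f : Fin r → A) (hf : ∀ j, f j ∈ I)
    (φ : Fin r → (↥(I ^ (c + 1)) →ₗ[A] A))
    (hφ : ∀ x : ↥(I ^ (c + 1)), (x : A) = ∑ j, f j * φ j x) {G : ℕᵒᵖ ⥤ X.Modules}
    (hG : Formal.IsCohFormal I G) (p m : ℕ) :
    ∃ c : ℕ, ∀ x : ∀ n, Coh.HH X (G.obj (op n)) p,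
      (∀ n, Formal2.HHsysMap G p n (x (n + 1)) = x n) → x c = 0 →
        ∃ (k : ℕ) (a : Fin k → A) (y : Fin k → ∀ n, Coh.HH X (G.obj (op n)) p),
          (∀ i, a i ∈ I ^ m ∧ ∀ n, Formal2.HHsysMap G p n (y i (n + 1)) = y i n) ∧ x = ∑ i, a i • y i := by
  classical
  cases m with
  | zero =>
    exact ⟨0, fun x hx _ => ⟨1, fun _ => 1, fun _ => x, fun _ => ⟨by simp, hx⟩, by simp⟩⟩
  | succ m =>
  obtain ⟨c', hcc, hmain⟩ := exists_graded hG f φ hφ
  obtain ⟨Ψ, -, hdesc, -⟩ := hmain (m + 1)
  obtain ⟨q, hq⟩ : ∃ q, (m + 1) * c' = q + 1 :=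
    ⟨(m + 1) * c' - 1, by have : 0 < (m + 1) * c' := Nat.mul_pos m.succ_pos (by omega); omega⟩
  refine ⟨q, fun x hx hxq => ?_⟩
  have hGq : Formal2.IsQCohFormal I G := ⟨fun n => (hG.1 n).1, hG.2⟩
  obtain ⟨z, hz⟩ := exists_lift_limit hGq p x hx
  have hz0 : hMapA (A := A) (Formal.modPowπ I ((m + 1) * c') (limit G)) p z = 0 := by
    rw [hq]
    obtain ⟨h, hi⟩ := FormalLimLib.exists_isIso_desc (IsNoetherian.noetherian I) hGq q
    have := hi
    have h1 := hz q
    rw [hxq, ← cokernel.π_desc _ (limit.π G (op q)) h, ← hMapA_comp] at h1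
    have h2 := congrArg (hMapA (A := A) (inv (cokernel.desc _ (limit.π G (op q)) h)) p) h1
    rw [hMapA_comp, IsIso.hom_inv_id, FormalProLib.hMap_id, map_zero] at h2
    exact h2
  let S : ShortComplex X.Modules := ShortComplex.mk _ _ (kernel.condition (Formal.modPowπ I ((m + 1) * c') (limit G)))
  have hS : S.ShortExact :=
    { exact := ShortComplex.exact_of_f_is_kernel _ (kernelIsKernel _)
      mono_f := inferInstanceAs (Mono (kernel.ι _))
      epi_g := inferInstanceAs (Epi (cokernel.π _)) }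
  obtain ⟨w, hw⟩ := Abelian.Ext.covariant_sequence_exact₂ _
    (S := S.map (QCohLib.toAbF X)) (QCohLib.toAbF_shortExact hS) z hz0
  have hw' : hMapA (A := A) (Formal2.idealPowModι I ((m + 1) * c') (limit G)) p w = z := hw
  let εT := ↥(Finset.Nat.antidiagonalTuple r (m + 1))
  let σ := (Fintype.equivFin εT).symm
  let cmp : εT → (Formal2.idealPowMod I ((m + 1) * c') (limit G) ⟶ limit G) :=
    fun e => Ψ ≫ biproduct.π (fun _ : εT => limit G) e
  refine ⟨Fintype.card εT, fun i => ∏ j, f j ^ (σ i).1 j,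
    fun i n => hMapA (A := A) (cmp (σ i) ≫ limit.π G (op n)) p w, fun i => ⟨?_, fun n => ?_⟩, ?_⟩
  · have h := Ideal.prod_mem_prod (s := (Finset.univ : Finset (Fin r))) (I := fun j => I ^ (σ i).1 j)
      fun j _ => Ideal.pow_mem_pow (hf j) ((σ i).1 j)
    rwa [Finset.prod_pow_eq_pow_sum, Finset.Nat.mem_antidiagonalTuple.1 (σ i).2] at h
  · show hMapA (A := A) (GrSysLib.trMap G n) p (hMapA (A := A) (cmp (σ i) ≫ limit.π G (op (n + 1))) p w) = _
    rw [hMapA_comp, Category.assoc, limit.w]
  · funext n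
    rw [Finset.sum_apply, ← hz n, ← hw']
    simp only [Pi.smul_apply]
    rw [σ.sum_comp (fun e => (∏ j, f j ^ e.1 j) • hMapA (A := A) (cmp e ≫ limit.π G (op n)) p w), hMapA_comp,
      ← hdesc, Category.assoc, show biproduct.desc (fun e : εT => Formal.smulMod A (limit G) (∏ j, f j ^ e.1 j)) =
        ∑ e, biproduct.π (fun _ : εT => limit G) e ≫ Formal.smulMod A (limit G) (∏ j, f j ^ e.1 j) from
      biproduct.desc_eq, Preadditive.sum_comp, Preadditive.comp_sum]
    have hsum : ∀ (t : Finset εT) (g : εT → (Formal2.idealPowMod I ((m + 1) * c') (limit G) ⟶ G.obj (op n))),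
        hMapA (A := A) (∑ e ∈ t, g e) p w = ∑ e ∈ t, hMapA (A := A) (g e) p w := fun t g => by
      induction t using Finset.induction_on with
      | empty => rw [Finset.sum_empty, Finset.sum_empty, FormalProLib.hMap_zero]
      | insert e t he ih => rw [Finset.sum_insert he, Finset.sum_insert he, GrSysLib.hMapA_add', ih]
    refine (hsum _ _).trans (Finset.sum_congr rfl fun e _ => ?_)
    rw [FormalProLib.smul_eq_hMap, hMapA_comp]
    congr 2
    simp only [cmp, Category.assoc, FormalProLib.smulMod_natural]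

end CdOneFormalLib

end
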