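import Groth.Agent.CdOneFormalLib.Hom

/-!
# The graded maps on the limit of a coherent formal module
-/

set_option autoImplicit false
set_option linter.style.haveILetI false
set_option linter.unusedSectionVars false

noncomputable section

universe u

open CategoryTheory CategoryTheory.Limits AlgebraicGeometry TopologicalSpace Opposite

namespace CdOneFormalLib

variable {A : Type u} [CommRing A] [IsNoetherianRing A] {X : Scheme.{u}} [X.Over (Spec (CommRingCat.of A))]
  [AlgebraicGeometry.IsNoetherian X] {I : Ideal A} {r c : ℕ} {G : ℕᵒᵖ ⥤ X.Modules}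

/-- The coefficient maps of the graded map. -/
def coeffMap (φ : Fin r → (↥(I ^ c) →ₗ[A] A)) (n : ℕ) (e : ↥(Finset.Nat.antidiagonalTuple r n)) :
    ↥(I ^ (n * c)) →ₗ[A] A :=
  MvPolynomial.lcoeff A (Finsupp.equivFunOnFinite.symm e.1) ∘ₗ IdealTransLib.P φ n

theorem sum_coeffMap (f : Fin r → A) (φ : Fin r → (↥(I ^ c) →ₗ[A] A))
    (hφ : ∀ x : ↥(I ^ c), (x : A) = ∑ j, f j * φ j x) (n : ℕ) (x : ↥(I ^ (n * c))) :
    ∑ e, coeffMap φ n e x * ∏ j, f j ^ e.1 j = x.1 :=
  (aeval_eq_sum_antidiagonal f (IdealTransLib.P_homogeneous φ n x)).symm.trans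
    (IdealTransLib.aeval_P φ f hφ n x)

/-- **The graded maps on the limit.** -/
theorem exists_graded (hG : Formal.IsCohFormal I G) (f : Fin r → A) (φ : Fin r → (↥(I ^ c) →ₗ[A] A))
    (hφ : ∀ x : ↥(I ^ c), (x : A) = ∑ j, f j * φ j x) :
    ∃ (c' : ℕ) (hc : c ≤ c'), ∀ n : ℕ,
      ∃ Ψ : Formal2.idealPowMod I (n * c') (limit G) ⟶
          ⨁ (fun _ : ↥(Finset.Nat.antidiagonalTuple r n) => limit G),
        (∀ (g : A) (hg : g ∈ I ^ (n * c')) (γ : limit G ⟶ Formal2.idealPowMod I (n * c') (limit G)),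
          γ ≫ Formal2.idealPowModι I (n * c') (limit G) = Formal.smulMod A (limit G) g →
            γ ≫ Ψ = biproduct.lift (fun e => Formal.smulMod A (limit G)
              (coeffMap (fun j => φ j ∘ₗ Submodule.inclusion (Ideal.pow_le_pow_right hc)) n e ⟨g, hg⟩))) ∧
        Ψ ≫ biproduct.desc (fun e : ↥(Finset.Nat.antidiagonalTuple r n) =>
            Formal.smulMod A (limit G) (∏ j, f j ^ e.1 j)) = Formal2.idealPowModι I (n * c') (limit G) ∧
        ∀ Ψ' : Formal2.idealPowMod I (n * c') (limit G) ⟶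
          ⨁ (fun _ : ↥(Finset.Nat.antidiagonalTuple r n) => limit G),
          (∀ g ∈ I ^ (n * c'), ∀ γ : limit G ⟶ Formal2.idealPowMod I (n * c') (limit G),
            γ ≫ Formal2.idealPowModι I (n * c') (limit G) = Formal.smulMod A (limit G) g → γ ≫ Ψ' = γ ≫ Ψ) →
          Ψ' = Ψ := by
  classical
  obtain ⟨C, E, hC, hE⟩ := exists_uniform_bound hG
  refine ⟨c + E, Nat.le_add_right c E, fun n => ?_⟩
  set φ' : Fin r → (↥(I ^ (c + E)) →ₗ[A] A) :=
    fun j => φ j ∘ₗ Submodule.inclusion (Ideal.pow_le_pow_right (Nat.le_add_right c E)) with hφdef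
  have hφ' : ∀ x : ↥(I ^ (c + E)), (x : A) = ∑ j, f j * φ' j x := fun x => hφ ⟨x.1, _⟩
  obtain ⟨s, a, ha⟩ := FormalLimLib.exists_gen (IsNoetherian.noetherian (I ^ (n * (c + E))) : Submodule.FG _)
  have hL : ∀ e, n * (c + E) = 0 ∨ ∀ x, coeffMap φ' n e x ∈ I ^ E := fun e => by
    cases n with
    | zero => exact Or.inl (Nat.zero_mul _)
    | succ m => exact Or.inr fun x => coeff_P_mem (fun j y => phi_mem_pow φ j E y.2 _) m x _
  obtain ⟨Ψ, hΨ⟩ := exists_map (limit G) a ha (coeffMap φ' n) fun e =>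
    kernel_comb_comp a ha hG hC hE _ (fun i j => by
      refine ((coeffMap φ' n e).map_smul (a i) _).symm.trans (Eq.trans ?_ ((coeffMap φ' n e).map_smul (a j) _))
      exact congrArg _ (Subtype.ext (mul_comm (a i) (a j))))
      ((hL e).imp_right fun h i => h _)
  refine ⟨Ψ, hΨ, ?_, fun Ψ' h' => hom_ext_idealPow (limit G) a ha Ψ' Ψ h'⟩
  refine hom_ext_idealPow (limit G) a ha _ _ fun g hg γ hγ => ?_
  rw [← Category.assoc, hΨ g hg γ hγ, hγ, biproduct.lift_desc]
  calc ∑ e, Formal.smulMod A (limit G) (coeffMap φ' n e ⟨g, hg⟩) ≫ Formal.smulMod A (limit G) (∏ j, f j ^ e.1 j)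
      = ∑ e, Formal.smulMod A (limit G) (coeffMap φ' n e ⟨g, hg⟩ * ∏ j, f j ^ e.1 j) :=
        Finset.sum_congr rfl fun e _ => (FormalLib.smulMod_mul _ _ _).symm.trans (congrArg _ (mul_comm _ _))
    _ = Formal.smulMod A (limit G) g := by rw [← smulMod_sum, sum_coeffMap f φ' hφ' n ⟨g, hg⟩]

end CdOneFormalLib

end
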