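import Groth.Agent.CdOneFormalLib.Alg
import Groth.Agent.FormalCohLib.Basic
import Groth.Agent.FormalLimLib.Main

/-!
# Maps out of the submodules `I ^ k M` and the graded maps on formal limits
-/

set_option autoImplicit false
set_option linter.style.haveILetI false
set_option linter.unusedSectionVars false

noncomputable section

universe u

open CategoryTheory CategoryTheory.Limits AlgebraicGeometry TopologicalSpace Opposite
open FormalLib (rhoA smulMod_add smulMod_mul)
open FormalProLib (smulMod_natural)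
open FormalCohLib (trLE idU secSys)

namespace CdOneFormalLib

variable {A : Type u} [CommRing A] {X : Scheme.{u}} [X.Over (Spec (CommRingCat.of A))]

theorem smulMod_sum (M : X.Modules) {ι : Type*} (t : Finset ι) (b : ι → A) :
    Formal.smulMod A M (∑ i ∈ t, b i) = ∑ i ∈ t, Formal.smulMod A M (b i) := by
  classical
  induction t using Finset.induction_on with
  | empty => rw [Finset.sum_empty, Finset.sum_empty, FormalProLib.smulMod_zero]
  | insert i t hi ih => rw [Finset.sum_insert hi, Finset.sum_insert hi, smulMod_add, ih]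

theorem app_sum {M N : X.Modules} {ι : Type*} (t : Finset ι) (g : ι → (M ⟶ N)) (U : X.Opens) (y : Γ(M, U)) :
    (∑ i ∈ t, g i).app U y = ∑ i ∈ t, (g i).app U y := by
  classical
  induction t using Finset.induction_on with
  | empty => rfl
  | insert i t hi ih =>
    rw [Finset.sum_insert hi, Finset.sum_insert hi, ← ih]
    rfl

variable {s : ℕ}

/-- Combination with fixed coefficients. -/
abbrev comb (M : X.Modules) (a : Fin s → A) : (⨁ fun _ : Fin s => M) ⟶ M :=
  biproduct.desc fun i => Formal.smulMod A M (a i)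

theorem comb_app (M : X.Modules) (a : Fin s → A) (U : X.Opens) (y : Γ(⨁ fun _ : Fin s => M, U)) :
    (comb M a).app U y = ∑ i, rhoA A U (a i) • (biproduct.π (fun _ : Fin s => M) i).app U y := by
  rw [show comb M a = ∑ i, biproduct.π (fun _ : Fin s => M) i ≫ Formal.smulMod A M (a i) from biproduct.desc_eq,
    app_sum]
  rfl

variable {I : Ideal A} {k : ℕ} (M : X.Modules) (a : Fin s → A) (ha : Ideal.span (Set.range a) = I ^ k)

include ha in
theorem mem_pow (i : Fin s) : a i ∈ I ^ k := ha.le (Ideal.subset_span ⟨i, rfl⟩)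

include ha in
theorem comb_modPowπ : comb M a ≫ Formal.modPowπ I k M = 0 :=
  biproduct.hom_ext' _ _ fun i => by
    rw [biproduct.ι_desc_assoc, FormalLib.smulMod_modPowπ M I k (mem_pow a ha i), comp_zero]

/-- The generators of `I ^ k M`. -/
def gen : (⨁ fun _ : Fin s => M) ⟶ Formal2.idealPowMod I k M := kernel.lift _ (comb M a) (comb_modPowπ M a ha)

theorem gen_ι : gen M a ha ≫ Formal2.idealPowModι I k M = comb M a := kernel.lift_ι _ _ _

theorem epi_gen : Epi (gen M a ha) := by
  have hex : (ShortComplex.mk _ _ (comb_modPowπ M a ha)).Exact := ShortComplex.exact_of_g_is_cokernel _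
    (CokernelCofork.IsColimit.ofπ' _ (comb_modPowπ M a ha) fun {T} ψ hψ => ⟨cokernel.desc _ ψ
      (FormalLimLib.smulFamily_comp_eq_zero a ha ψ fun i => by
        have := congrArg (fun t => biproduct.ι (fun _ : Fin s => M) i ≫ t) hψ
        simpa [comb] using this), cokernel.π_desc _ _ _⟩)
  exact (ShortComplex.exact_iff_epi_kernel_lift _).1 hex

theorem eq_coord {g : A} (γ : M ⟶ Formal2.idealPowMod I k M)
    (hγ : γ ≫ Formal2.idealPowModι I k M = Formal.smulMod A M g) (b : Fin s → A) (hb : ∑ i, b i * a i = g) :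
    γ = biproduct.lift (fun i => Formal.smulMod A M (b i)) ≫ gen M a ha := by
  rw [← cancel_mono (Formal2.idealPowModι I k M), hγ, Category.assoc, gen_ι, comb, biproduct.lift_desc, ← hb,
    smulMod_sum]
  exact Finset.sum_congr rfl fun i _ => by rw [mul_comm, smulMod_mul]

variable {ε : Type} [Fintype ε]

include ha in
/-- A family of linear maps on `I ^ k` killing the relations gives a map out of `I ^ k M`. -/
theorem exists_map (L : ε → (↥(I ^ k) →ₗ[A] A))
    (h : ∀ e, kernel.ι (comb M a) ≫ comb M (fun i => L e ⟨a i, mem_pow a ha i⟩) = 0) :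
    ∃ Ψ : Formal2.idealPowMod I k M ⟶ ⨁ (fun _ : ε => M), ∀ (g : A) (hg : g ∈ I ^ k)
      (γ : M ⟶ Formal2.idealPowMod I k M), γ ≫ Formal2.idealPowModι I k M = Formal.smulMod A M g →
        γ ≫ Ψ = biproduct.lift (fun e => Formal.smulMod A M (L e ⟨g, hg⟩)) := by
  classical
  have := epi_gen M a ha
  let ψ : (⨁ fun _ : Fin s => M) ⟶ ⨁ (fun _ : ε => M) :=
    biproduct.lift fun e => comb M (fun i => L e ⟨a i, mem_pow a ha i⟩)
  have hψ : kernel.ι (gen M a ha) ≫ ψ = 0 := by
    have h1 : kernel.ι (gen M a ha) ≫ comb M a = 0 := by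
      rw [← gen_ι M a ha, kernel.condition_assoc, zero_comp]
    refine biproduct.hom_ext _ _ fun e => ?_
    rw [← kernel.lift_ι (comb M a) _ h1, zero_comp, Category.assoc, Category.assoc, biproduct.lift_π, h, comp_zero]
  refine ⟨Abelian.epiDesc (gen M a ha) ψ hψ, fun g hg γ hγ => ?_⟩
  obtain ⟨b, hb⟩ := Ideal.mem_span_range_iff_exists_fun.1 (ha.ge hg)
  rw [eq_coord M a ha γ hγ b hb, Category.assoc, Abelian.comp_epiDesc]
  refine biproduct.hom_ext _ _ fun e => ?_
  rw [Category.assoc, biproduct.lift_π, biproduct.lift_π, comb, biproduct.lift_desc,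
    show (⟨g, hg⟩ : ↥(I ^ k)) = ∑ i, b i • ⟨a i, mem_pow a ha i⟩ from Subtype.ext (by simp [← hb]),
    map_sum, smulMod_sum]
  refine Finset.sum_congr rfl fun i _ => ?_
  rw [map_smul, smul_eq_mul, mul_comm, smulMod_mul]

include ha in
/-- Maps out of `I ^ k M` are determined by their values on multiples. -/
theorem hom_ext_idealPow {T : X.Modules} (Ψ Ψ' : Formal2.idealPowMod I k M ⟶ T)
    (h : ∀ g ∈ I ^ k, ∀ γ : M ⟶ Formal2.idealPowMod I k M,
      γ ≫ Formal2.idealPowModι I k M = Formal.smulMod A M g → γ ≫ Ψ = γ ≫ Ψ') : Ψ = Ψ' := by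
  have := epi_gen M a ha
  rw [← cancel_epi (gen M a ha)]
  refine biproduct.hom_ext' _ _ fun i => ?_
  rw [← Category.assoc, ← Category.assoc]
  refine h _ (mem_pow a ha i) _ ?_
  rw [Category.assoc, gen_ι, biproduct.ι_desc]

section Formal

variable [AlgebraicGeometry.IsNoetherian X] {G : ℕᵒᵖ ⥤ X.Modules} (hG : Formal.IsCohFormal I G)

include hG in
/-- A uniform torsion bound on a finite affine cover. -/
theorem exists_uniform_bound : ∃ (C : Finset X.affineOpens) (E : ℕ), (∀ x : X, ∃ V ∈ C, x ∈ V.1) ∧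
    ∀ V ∈ C, ∀ (j : ℕ) (t : (secSys hG V.2).L),
      t ∈ idU I V.1 ^ E • (⊤ : Submodule Γ(X, V.1) (secSys hG V.2).L) →
        (∀ b ∈ idU I V.1 ^ j, b • t = 0) → t = 0 := by
  classical
  obtain ⟨C, hC⟩ := FormalCohLib.exists_cover (X := X)
  have h : ∀ V : X.affineOpens, ∃ E : ℕ, ∀ (j : ℕ) (t : (secSys hG V.2).L),
      t ∈ idU I V.1 ^ E • (⊤ : Submodule Γ(X, V.1) (secSys hG V.2).L) →
        (∀ b ∈ idU I V.1 ^ j, b • t = 0) → t = 0 := fun V => by
    have := FormalCohLib.noethRing (X := X) V.2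
    exact exists_torsion_bound _
  choose e he using h
  exact ⟨C, C.sup e, hC, fun V hV j t ht hk => he V j t
    (Submodule.smul_mono_left (Ideal.pow_le_pow_right (Finset.le_sup hV)) ht) hk⟩

include hG ha in
/-- Relations among multiples are killed. -/
theorem kernel_comb_comp {C : Finset X.affineOpens} (hC : ∀ x : X, ∃ V ∈ C, x ∈ V.1) {E : ℕ}
    (hE : ∀ V ∈ C, ∀ (j : ℕ) (t : (secSys hG V.2).L),
      t ∈ idU I V.1 ^ E • (⊤ : Submodule Γ(X, V.1) (secSys hG V.2).L) →
        (∀ b ∈ idU I V.1 ^ j, b • t = 0) → t = 0)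
    (l : Fin s → A) (hl : ∀ i j, a i * l j = a j * l i) (hlE : k = 0 ∨ ∀ i, l i ∈ I ^ E) :
    kernel.ι (comb (limit G) a) ≫ comb (limit G) l = 0 := by
  refine limit.hom_ext fun m => ?_
  induction m using Opposite.rec with | op m => ?_
  let N := G.obj (op (m + k))
  let π' : (⨁ fun _ : Fin s => limit G) ⟶ ⨁ fun _ : Fin s => N := biproduct.map fun _ => limit.π G (op (m + k))
  have h1 : comb (limit G) a ≫ limit.π G (op (m + k)) = π' ≫ comb N a := biproduct.hom_ext' _ _ fun i => by
    rw [biproduct.ι_desc_assoc, biproduct.ι_map_assoc, biproduct.ι_desc, smulMod_natural]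
  have h2 : comb (limit G) l ≫ limit.π G (op m) = π' ≫ comb N l ≫ trLE G (Nat.le_add_right m k) :=
    biproduct.hom_ext' _ _ fun i => by
      rw [biproduct.ι_desc_assoc, biproduct.ι_map_assoc, biproduct.ι_desc_assoc, smulMod_natural,
        smulMod_natural (trLE G (Nat.le_add_right m k)), ← Category.assoc,
        limit.w G (homOfLE (Nat.le_add_right m k)).op]
  have h3 : (kernel.ι (comb (limit G) a) ≫ π') ≫ comb N a = 0 := by
    rw [Category.assoc, ← h1, kernel.condition_assoc, zero_comp]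
  rw [zero_comp, Category.assoc, h2, ← Category.assoc, ← kernel.lift_ι (comb N a) _ h3, Category.assoc]
  suffices kernel.ι (comb N a) ≫ comb N l ≫ trLE G (Nat.le_add_right m k) = 0 by rw [this, comp_zero]
  have hN : Coh.IsQCoh N := (hG.1 _).1
  have hP : Coh.IsQCoh (⨁ fun _ : Fin s => N) :=
    have : Coh.IsQCoh (∐ fun _ : ULift.{u} (Fin s) => N) := QCohLib.isQCoh_sigma _ fun _ => hN
    QCohLib.isQCoh_of_iso ((biproduct.isoCoproduct _).symm ≪≫
      biproduct.whiskerEquiv Equiv.ulift fun _ => Iso.refl N)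
  have : Coh.IsQCoh (kernel (comb N a)) := QCohLib.isQCoh_kernel _
  refine HomCohLib.eq_zero_of_app _ (fun V : C => V.1.1) (fun V => V.1.2)
    (fun x => by obtain ⟨V, hV, hx⟩ := hC x; exact ⟨⟨V, hV⟩, hx⟩) fun ⟨V, hV⟩ v => ?_
  have := FormalCohLib.noethRing (X := X) V.2
  let v' := (kernel.ι (comb N a)).app V.1 v
  have hv' : (comb N a).app V.1 v' = 0 :=
    (congrArg (fun t => Scheme.Modules.Hom.app t V.1 v) (kernel.condition (comb N a))).trans rfl
  rw [comb_app] at hv'
  choose w hw using fun i => (secSys hG V.2).proj_surjective (m + k) ((biproduct.π (fun _ : Fin s => N) i).app V.1 v')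
  have h4 := sum_smul_proj_eq_zero (secSys hG V.2) (hE V hV) (fun i => rhoA A V.1 (a i))
    (fun i => rhoA A V.1 (l i)) (by
      rw [show Set.range (fun i => rhoA A V.1 (a i)) = rhoA A V.1 '' Set.range a from Set.range_comp _ a,
        ← Ideal.map_span, ha, FormalCohLib.idU_pow])
    (fun i j => by rw [← map_mul, ← map_mul, hl])
    (hlE.imp_right fun h i => by rw [FormalCohLib.idU_pow]; exact Ideal.mem_map_of_mem _ (h i)) m w
    (Eq.trans (Finset.sum_congr rfl fun i _ => by rw [hw]; rfl) hv')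
  refine Eq.trans ?_ h4
  show (trLE G (Nat.le_add_right m k)).app V.1 ((comb N l).app V.1 v') = _
  rw [comb_app, map_sum]
  refine Finset.sum_congr rfl fun i _ => ?_
  rw [QCohLib.app_smul, ← hw]
  exact congrArg _ (FormalCohLib.proj_trLE hG V.2 _ _)

end Formal

end CdOneFormalLib

end
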